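import Groth.Prelude.Def_SpSeq
import Groth.Agent.RDerLib.Horseshoe

/-! # Injective resolutions of finitely filtered objects -/

set_option autoImplicit false
set_option linter.style.haveILetI false

universe v u

open CategoryTheory CategoryTheory.Limits Groth.Agent.RDerLib

namespace FilResLib

variable {C : Type u} [Category.{v} C] [Abelian C]

theorem exists_sesRes_fixed {S : ShortComplex C} (hS : S.ShortExact) (I₁ : InjectiveResolution S.X₁)
    (I₃ : InjectiveResolution S.X₃) : ∃ R : RDer.SESRes S, R.I₁ = I₁ := by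
  haveI := hS.mono_f
  haveI := hS.epi_g
  haveI hi₁ : Injective (I₁.cocomplex.X 0) := inferInstance
  obtain ⟨ε, hε⟩ : ∃ ε : S.X₂ ⟶ I₁.cocomplex.X 0, S.f ≫ ε = ι₀ I₁ :=
    ⟨Injective.factorThru (ι₀ I₁) S.f, Injective.comp_factorThru _ _⟩
  have hε' : S.f ≫ (-(ε ≫ I₁.cocomplex.d 0 1)) = 0 := by
    rw [Preadditive.comp_neg, reassoc_of% hε]
    simp
  obtain ⟨θ, hθg⟩ : ∃ θ, S.g ≫ θ = -(ε ≫ I₁.cocomplex.d 0 1) :=
    ⟨hS.exact.desc _ hε', hS.exact.g_desc _ hε'⟩
  have hθ : θ ≫ I₁.cocomplex.d 1 2 = 0 := by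
    rw [← cancel_epi S.g, reassoc_of% hθg, Preadditive.neg_comp, Category.assoc,
      HomologicalComplex.d_comp_d, comp_zero, neg_zero, comp_zero]
  obtain ⟨ψ, hψ₀, hψ⟩ := exists_twist I₁ I₃ θ hθ
  let A : ℕ → C := fun n => I₁.cocomplex.X n ⊞ I₃.cocomplex.X n
  let d : ∀ n, A n ⟶ A (n + 1) := fun n =>
    biprod.desc (I₁.cocomplex.d n (n + 1) ≫ biprod.inl)
      (ψ n ≫ biprod.inl + I₃.cocomplex.d n (n + 1) ≫ biprod.inr)
  have hd : ∀ n, d n ≫ d (n + 1) = 0 := fun n => by
    apply biprod.hom_ext'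
    · simp [d]
    · simp only [d, biprod.inr_desc_assoc, Preadditive.add_comp, Category.assoc,
        biprod.inl_desc, biprod.inr_desc, Preadditive.comp_add, HomologicalComplex.d_comp_d_assoc,
        zero_comp, comp_zero, add_zero]
      rw [← Category.assoc, ← Category.assoc, ← Preadditive.add_comp, hψ n, zero_comp]
  let J : CochainComplex C ℕ := CochainComplex.of A d hd
  have hJd : ∀ n, J.d n (n + 1) = d n := fun n => by simp [J]
  haveI hJi : ∀ n, Injective (J.X n) := fun n =>
    inferInstanceAs (Injective (I₁.cocomplex.X n ⊞ I₃.cocomplex.X n))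
  let f : I₁.cocomplex ⟶ J :=
    { f := fun n => (biprod.inl : _ ⟶ A n)
      comm' := fun i j hij => by
        obtain rfl : i + 1 = j := hij
        rw [hJd]
        exact biprod.inl_desc _ _ }
  let g : J ⟶ I₃.cocomplex :=
    { f := fun n => (biprod.snd : A n ⟶ _)
      comm' := fun i j hij => by
        obtain rfl : i + 1 = j := hij
        rw [hJd]
        apply biprod.hom_ext' <;> simp [d, Preadditive.add_comp] }
  have hfg : f ≫ g = 0 := by
    ext n
    exact biprod.inl_snd
  have hsp : ∀ n, ((ShortComplex.mk f g hfg).map (HomologicalComplex.eval C _ n)).ShortExact :=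
    fun n => (ShortComplex.Splitting.ofHasBinaryBiproduct
      (I₁.cocomplex.X n) (I₃.cocomplex.X n)).shortExact
  have hcx := HomologicalComplex.shortExact_of_degreewise_shortExact _ hsp
  let e : S.X₂ ⟶ J.X 0 := biprod.lift ε (S.g ≫ ι₀ I₃)
  have hed : e ≫ J.d 0 1 = 0 := by
    rw [hJd 0]
    apply biprod.hom_ext
    · simp only [e, d, biprod.lift_desc, Preadditive.add_comp, Category.assoc, biprod.inl_fst,
        biprod.inr_fst, Preadditive.comp_add, comp_zero, zero_comp, add_zero, Category.comp_id]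
      rw [hψ₀, hθg]
      exact add_neg_cancel _
    · simp [e, d, biprod.lift_desc, Preadditive.add_comp]
  let ι : (CochainComplex.single₀ C).obj S.X₂ ⟶ J :=
    (CochainComplex.fromSingle₀Equiv J S.X₂).symm ⟨e, hed⟩
  have hι0 : ι.f 0 = e := by simp [ι]
  have hm : Mono e := by
    refine Preadditive.mono_of_cancel_zero _ fun {A₀} a ha => ?_
    have h₂ : a ≫ S.g = 0 := by
      have := congrArg (· ≫ (biprod.snd : A 0 ⟶ _)) ha
      simp only [e, Category.assoc, biprod.lift_snd, zero_comp] at this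
      exact zero_of_comp_mono (ι₀ I₃) ((Category.assoc _ _ _).trans this)
    obtain ⟨b, hb⟩ : ∃ b, b ≫ S.f = a := ⟨hS.exact.lift a h₂, hS.exact.lift_f a h₂⟩
    have h₁ : b ≫ ι₀ I₁ = 0 := by
      have := congrArg (· ≫ (biprod.fst : A 0 ⟶ _)) ha
      simp only [e, Category.assoc, biprod.lift_fst, zero_comp, ← hb, hε] at this
      exact this
    rw [← hb, zero_of_comp_mono (ι₀ I₁) h₁]
    exact zero_comp
  have key : ∀ {A₀ : C} (z : A₀ ⟶ A 0), z ≫ d 0 = 0 →
      ∃ (A₁ : C) (π : A₁ ⟶ A₀) (_ : Epi π) (x : A₁ ⟶ S.X₂), π ≫ z = x ≫ e := by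
    intro A₀ z hz
    have h₃ : (z ≫ biprod.snd) ≫ I₃.cocomplex.d 0 1 = 0 := by
      have := congrArg (· ≫ (biprod.snd : A 1 ⟶ _)) hz
      simp only [zero_comp, Category.assoc] at this
      rw [Category.assoc, ← this]
      congr 1
      apply biprod.hom_ext' <;> simp [d, Preadditive.add_comp]
    obtain ⟨x₃, hx₃⟩ : ∃ x₃ : A₀ ⟶ S.X₃, x₃ ≫ ι₀ I₃ = z ≫ biprod.snd :=
      exists_lift_ι₀ I₃ _ h₃
    obtain ⟨A₁, π, hπ, x, hx⟩ := surjective_up_to_refinements_of_epi S.g x₃
    set w : A₁ ⟶ I₁.cocomplex.X 0 := π ≫ z ≫ biprod.fst - x ≫ ε with hw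
    have hw0 : w ≫ I₁.cocomplex.d 0 1 = 0 := by
      have h₁ : z ≫ biprod.fst ≫ I₁.cocomplex.d 0 1 + z ≫ biprod.snd ≫ ψ 0 = 0 := by
        have := congrArg (· ≫ (biprod.fst : A 1 ⟶ _)) hz
        simp only [zero_comp, Category.assoc] at this
        rw [← Preadditive.comp_add, ← this]
        congr 1
        apply biprod.hom_ext' <;> simp [d, Preadditive.add_comp]
      have h₁' := eq_neg_of_add_eq_zero_left h₁
      rw [hw, Preadditive.sub_comp, Category.assoc, Category.assoc, Category.assoc, h₁',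
        ← reassoc_of% hx₃, hψ₀, Preadditive.comp_neg, reassoc_of% hx, hθg, Preadditive.comp_neg,
        neg_neg, sub_self]
    obtain ⟨x₁, hx₁⟩ : ∃ x₁ : A₁ ⟶ S.X₁, x₁ ≫ ι₀ I₁ = w :=
      exists_lift_ι₀ I₁ w hw0
    refine ⟨A₁, π, hπ, x + x₁ ≫ S.f, ?_⟩
    apply biprod.hom_ext
    · simp only [e, Category.assoc, biprod.lift_fst, Preadditive.add_comp, hε]
      rw [hx₁]
      rw [hw]
      exact (add_sub_cancel _ _).symm
    · simp only [e, Category.assoc, biprod.lift_snd, Preadditive.add_comp, S.zero_assoc, zero_comp,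
        comp_zero, add_zero]
      rw [← reassoc_of% hx]
      exact congrArg (π ≫ ·) hx₃.symm
  have hex : (ShortComplex.mk e (J.d 0 1) hed).Exact := by
    rw [ShortComplex.exact_iff_exact_up_to_refinements]
    intro A₀ z hz
    exact key z ((congrArg (fun t => z ≫ t) (hJd 0)).symm.trans hz)
  haveI hqi : QuasiIso ι := by
    constructor
    intro n
    cases n with
    | zero =>
      rw [CochainComplex.quasiIsoAt₀_iff, ShortComplex.quasiIso_iff_of_zeros]
      · refine (ShortComplex.exact_and_mono_f_iff_of_iso ?_).2 ⟨hex, hm⟩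
        refine ShortComplex.isoMk (Iso.refl _) (Iso.refl _) (Iso.refl _) ?_ ?_
        · simp [hι0]
          exact (Category.id_comp e).trans (Category.comp_id e).symm
        · simp
          exact (Category.id_comp _).trans (Category.comp_id _).symm
      all_goals rfl
    | succ n =>
      rw [quasiIsoAt_iff_exactAt ι (n + 1) (CochainComplex.exactAt_succ_single_obj _ _)]
      refine hcx.exactAt_X₂ (n + 1) ?_ ?_
      · rw [← quasiIsoAt_iff_exactAt I₁.ι (n + 1) (CochainComplex.exactAt_succ_single_obj _ _)]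
        infer_instance
      · rw [← quasiIsoAt_iff_exactAt I₃.ι (n + 1) (CochainComplex.exactAt_succ_single_obj _ _)]
        infer_instance
  refine ⟨{ I₁ := I₁, I₂ := { cocomplex := J, ι := ι }, I₃ := I₃, f := f, g := g, zero := hfg,
            ι_f := ?_, ι_g := ?_, shortExact := hcx }, rfl⟩
  · refine HomologicalComplex.from_single_hom_ext ?_
    simp only [HomologicalComplex.comp_f, CochainComplex.single₀_map_f_zero]
    change ι₀ I₁ ≫ (biprod.inl : _ ⟶ A 0) = S.f ≫ ι.f 0
    rw [hι0]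
    apply biprod.hom_ext <;> simp [e, hε]
  · refine HomologicalComplex.from_single_hom_ext ?_
    simp only [HomologicalComplex.comp_f, CochainComplex.single₀_map_f_zero]
    change ι.f 0 ≫ (biprod.snd : A 0 ⟶ _) = S.g ≫ ι₀ I₃
    rw [hι0]
    exact biprod.lift_snd _ _


/-- Any resolution of a subobject extends to one of the object. -/
theorem exists_extend [EnoughInjectives C] {B A : C} (f : B ⟶ A) [Mono f] (I : InjectiveResolution B) :
    ∃ (J : InjectiveResolution A) (φ : I.cocomplex ⟶ J.cocomplex), Mono φ ∧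
      I.ι ≫ φ = (CochainComplex.single₀ C).map f ≫ J.ι := by
  let S := ShortComplex.mk f (cokernel.π f) (cokernel.condition f)
  have hS : S.ShortExact := { exact := ShortComplex.exact_of_g_is_cokernel _ (cokernelIsCokernel f) }
  obtain ⟨R, rfl⟩ := exists_sesRes_fixed hS I (InjectiveResolution.of (cokernel f))
  exact ⟨R.I₂, R.f, R.shortExact.mono_f, R.ι_f⟩

variable (C) in
/-- A step of a filtered resolution. -/
def Good {Y A : C} (X : InjectiveResolution A) (u : Y ⟶ A) (H : Subobject X.cocomplex) : Prop :=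
  (∀ j : ℕ, Injective ((H : CochainComplex C ℕ).X j)) ∧
    ∃ ι : (CochainComplex.single₀ C).obj Y ⟶ (H : CochainComplex C ℕ),
      ι ≫ H.arrow = (CochainComplex.single₀ C).map u ≫ X.ι ∧ QuasiIso ι

theorem good_mk {Y A : C} (X : InjectiveResolution A) (u : Y ⟶ A) {T : CochainComplex C ℕ} (f : T ⟶ X.cocomplex)
    [Mono f] (hT : ∀ j, Injective (T.X j)) (ι : (CochainComplex.single₀ C).obj Y ⟶ T) (hι : QuasiIso ι)
    (h : ι ≫ f = (CochainComplex.single₀ C).map u ≫ X.ι) : Good C X u (Subobject.mk f) := by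
  haveI := hι
  refine ⟨fun j => ?_, ι ≫ (Subobject.underlyingIso f).inv, ?_, inferInstance⟩
  · haveI := hT j
    exact Injective.of_iso ((HomologicalComplex.eval C _ j).mapIso (Subobject.underlyingIso f).symm) (hT j)
  · rw [Category.assoc, Subobject.underlyingIso_arrow, h]

theorem good_top {Y A : C} (X : InjectiveResolution A) (u : Y ⟶ A) [IsIso u] : Good C X u ⊤ := by
  rw [Subobject.top_eq_id]
  haveI := X.quasiIso
  exact good_mk X u (𝟙 _) (fun j => X.injective j) _ inferInstance (Category.comp_id _)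

theorem good_map {Y B A : C} (X : InjectiveResolution B) (J : InjectiveResolution A) (u : Y ⟶ B) (f : B ⟶ A)
    (φ : X.cocomplex ⟶ J.cocomplex) [Mono φ] (hφ : X.ι ≫ φ = (CochainComplex.single₀ C).map f ≫ J.ι)
    (w : Y ⟶ A) (hw : u ≫ f = w) (H : Subobject X.cocomplex) (h : Good C X u H) :
    Good C J w ((Subobject.map φ).obj H) := by
  obtain ⟨hi, ι, hι, hq⟩ := h
  haveI := hq
  have e : (Subobject.map φ).obj H = Subobject.mk (H.arrow ≫ φ) := by
    conv_lhs => rw [← Subobject.mk_arrow H]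
    rw [Subobject.map_mk]
  rw [e]
  refine good_mk J w _ hi ι hq ?_
  rw [reassoc_of% hι, hφ, ← hw, Functor.map_comp, Category.assoc]

theorem isZero_single {Z : C} (hZ : IsZero Z) : IsZero ((CochainComplex.single₀ C).obj Z) := by
  rw [IsZero.iff_id_eq_zero, ← CategoryTheory.Functor.map_id, hZ.eq_of_src (𝟙 Z) 0, Functor.map_zero]

theorem subobject_eq {D : Type*} [Category D] {X : D} [HasZeroMorphisms D] (hX : IsZero X) (P Q : Subobject X) : P = Q := by
  have key : ∀ R : Subobject X, IsIso R.arrow := fun R => by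
    refine ⟨0, ?_, hX.eq_of_src _ _⟩
    rw [← cancel_mono R.arrow]
    exact hX.eq_of_tgt _ _
  haveI := key P
  haveI := key Q
  exact (Subobject.eq_top_of_isIso_arrow P).trans (Subobject.eq_top_of_isIso_arrow Q).symm

theorem isZero_step {A : C} {P : Subobject A} (h : P = ⊥) : IsZero (P : C) := by
  subst h
  exact (isZero_zero C).of_iso Subobject.botCoeIsoZero

theorem exists_tower [EnoughInjectives C] (K : SpSeq.FilObj C) (b : ℤ) (hb : ∀ i, b ≤ i → K.fil i = ⊥) :
    ∀ (n : ℕ) (p : ℤ), p + n = b → ∃ (X : InjectiveResolution (K.step p)) (H : ℤ → Subobject X.cocomplex),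
      (∀ i j, i ≤ j → H j ≤ H i) ∧ (∀ i, b ≤ i → H i = ⊥) ∧
        ∀ i (hi : p ≤ i), Good C X (K.stepLE hi) (H i) := by
  intro n
  induction n with
  | zero =>
    intro p hp
    obtain rfl : p = b := by omega
    have hz : IsZero (K.step p) := isZero_step (hb p le_rfl)
    haveI : Injective (K.step p) := hz.injective
    let X := InjectiveResolution.self (K.step p)
    have hX : IsZero X.cocomplex := isZero_single hz
    refine ⟨X, fun _ => ⊥, fun _ _ _ => le_rfl, fun _ _ => rfl, fun i hi => ?_⟩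
    have hzi : IsZero (K.step i) := isZero_step (hb i hi)
    haveI : IsIso (K.stepLE hi) := ⟨0, hzi.eq_of_src _ _, hz.eq_of_src _ _⟩
    rw [subobject_eq hX ⊥ ⊤]
    exact good_top X _
  | succ n ih =>
    intro p hp
    obtain ⟨X, H, hanti, hbot, hgood⟩ := ih (p + 1) (by omega)
    obtain ⟨J, φ, hmono, hφ⟩ := exists_extend (K.stepLE (show p ≤ p + 1 by omega)) X
    haveI := hmono
    refine ⟨J, fun i => if i ≤ p then ⊤ else (Subobject.map φ).obj (H i), fun i j hij => ?_, fun i hi => ?_,
      fun i hi => ?_⟩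
    · dsimp only
      by_cases hi : i ≤ p
      · rw [if_pos hi]; exact le_top
      · rw [if_neg hi, if_neg (show ¬ j ≤ p by omega)]
        exact ((Subobject.map φ).map (homOfLE (hanti i j hij))).le
    · dsimp only
      rw [if_neg (show ¬ i ≤ p by omega), hbot i hi, Subobject.map_bot]
    · by_cases hip : i ≤ p
      · obtain rfl : i = p := le_antisymm hip hi
        dsimp only
        rw [if_pos le_rfl]
        haveI : IsIso (K.stepLE hi) := by
          rw [show K.stepLE hi = 𝟙 _ from by simp [SpSeq.FilObj.stepLE]]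
          infer_instance
        exact good_top J _
      · dsimp only
        rw [if_neg hip]
        exact good_map X J _ _ φ hφ _ (Subobject.ofLE_comp_ofLE _ _ _ _ _) (H i) (hgood i (by omega))

/-- A finitely filtered object has a filtered injective resolution. -/
theorem exists_filtered [EnoughInjectives C] (K : SpSeq.FilObj C) (hK : K.IsFinite) :
    ∃ (X : InjectiveResolution K.obj) (G : ℤ → Subobject X.cocomplex), Antitone G ∧
      (∀ i : ℤ, K.fil i = ⊤ → G i = ⊤) ∧ (∀ i : ℤ, K.fil i = ⊥ → G i = ⊥) ∧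
      ∀ i : ℤ, Good C X (K.fil i).arrow (G i) := by
  by_cases hA : IsZero K.obj
  · haveI : Injective K.obj := hA.injective
    let X := InjectiveResolution.self K.obj
    have hX : IsZero X.cocomplex := isZero_single hA
    refine ⟨X, fun _ => ⊤, fun _ _ _ => le_rfl, fun _ _ => rfl, fun _ _ => subobject_eq hX _ _, fun i => ?_⟩
    haveI : IsIso (K.fil i).arrow := by
      rw [subobject_eq hA (K.fil i) ⊤]; infer_instance
    exact good_top X _
  obtain ⟨⟨a₀, ha₀⟩, b₀, hb₀⟩ := hK
  have hne : ∀ i j, K.fil i = ⊤ → K.fil j = ⊥ → i < j := fun i j hi hj => by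
    by_contra hle
    have htb : (⊤ : Subobject K.obj) = ⊥ := le_bot_iff.1 (hi ▸ hj ▸ K.anti (not_lt.1 hle))
    exact hA ((isZero_step (P := (⊤ : Subobject K.obj)) htb).of_iso (asIso (⊤ : Subobject K.obj).arrow).symm)
  obtain ⟨a, ha, hamax⟩ := Int.exists_greatest_of_bdd (P := fun i => K.fil i = ⊤)
    ⟨b₀, fun z hz => (hne z b₀ hz hb₀).le⟩ ⟨a₀, ha₀⟩
  obtain ⟨b, hb, hbmin⟩ := Int.exists_least_of_bdd (P := fun i => K.fil i = ⊥)
    ⟨a₀, fun z hz => (hne a₀ z ha₀ hz).le⟩ ⟨b₀, hb₀⟩
  have hab : a < b := hne a b ha hb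
  have hbge : ∀ i, b ≤ i → K.fil i = ⊥ := fun i hi => le_bot_iff.1 (hb ▸ K.anti hi)
  obtain ⟨X, H, hanti, hbot, hgood⟩ := exists_tower K b hbge (b - a).toNat a (by omega)
  haveI : IsIso (K.fil a).arrow := by rw [ha]; infer_instance
  obtain ⟨J, φ, hmono, hφ⟩ := exists_extend (K.fil a).arrow X
  haveI := hmono
  refine ⟨J, fun i => if i ≤ a then ⊤ else (Subobject.map φ).obj (H i), fun i j hij => ?_, fun i hi => ?_,
    fun i hi => ?_, fun i => ?_⟩
  · dsimp only
    by_cases hi : i ≤ a
    · rw [if_pos hi]; exact le_top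
    · rw [if_neg hi, if_neg (show ¬ j ≤ a by omega)]
      exact ((Subobject.map φ).map (homOfLE (hanti i j hij))).le
  · dsimp only
    rw [if_pos (hamax i hi)]
  · dsimp only
    rw [if_neg (show ¬ i ≤ a by have := hne a i ha hi; omega), hbot i (hbmin i hi), Subobject.map_bot]
  · dsimp only
    by_cases hi : i ≤ a
    · rw [if_pos hi]
      haveI : IsIso (K.fil i).arrow := by
        rw [show K.fil i = ⊤ from top_le_iff.1 (ha ▸ K.anti hi)]; infer_instance
      exact good_top J _
    · rw [if_neg hi]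
      exact good_map X J _ _ φ hφ _ (Subobject.ofLE_arrow _) (H i) (hgood i (by omega))

end FilResLib
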